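import Cfsg.Agent.H647.GT.Iso
import Cfsg.Agent.H753.GT.EFiveD
import Cfsg.Agent.Lib.FrattiniPGroup

/-!
# S5211, (E5b), the case `M ≠ 0` (helper647)
-/

set_option autoImplicit false

namespace Cfsg.Agent.H647.GT

open Cfsg Cfsg.FusionSystem Cfsg.Agent.H756.PU Cfsg.Agent.H779.G2 Cfsg.Agent.H103.GT Cfsg.Agent.H753.GT Cfsg.Agent.H710.GT

universe u

section
variable {K : Type u} [Field K]

/-- the image of `E` in `Q_b / Z₃ = K²` -/
def WE (E : Subgroup (GU K)) (hb : E ≤ Qb K) : AddSubgroup (K × K) where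
  carrier := {w | ∃ x ∈ E, w = (x.a, x.c)}
  zero_mem' := ⟨1, E.one_mem, rfl⟩
  add_mem' := by
    rintro _ _ ⟨x, hx, rfl⟩ ⟨y, hy, rfl⟩
    refine ⟨x * y, E.mul_mem hx hy, ?_⟩
    have h1 : x.b = 0 := hb hx
    rw [GU.mul_a, GU.mul_c, h1, zero_mul, add_zero]; rfl
  neg_mem' := by
    rintro _ ⟨x, hx, rfl⟩
    refine ⟨x⁻¹, E.inv_mem hx, ?_⟩
    have h1 : x.b = 0 := hb hx
    rw [GU.inv_a, GU.inv_c, h1, mul_zero, add_zero]; rfl

/-- the `d`-coordinates of the elements of `Φ ∩ Z₃` -/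
def ME (Φ : Subgroup (GU K)) : AddSubgroup K where
  carrier := {m | ∃ x ∈ Φ, x ∈ Z3 K ∧ m = x.d}
  zero_mem' := ⟨1, Φ.one_mem, (Z3 K).one_mem, rfl⟩
  add_mem' := by
    rintro _ _ ⟨x, hx, hx3, rfl⟩ ⟨y, hy, hy3, rfl⟩
    refine ⟨x * y, Φ.mul_mem hx hy, (Z3 K).mul_mem hx3 hy3, ?_⟩
    obtain ⟨h1, h2, h3⟩ := mem_Z3.1 hx3
    rw [GU.mul_d, h2, h3]; ring
  neg_mem' := by
    rintro _ ⟨x, hx, hx3, rfl⟩
    refine ⟨x⁻¹, Φ.inv_mem hx, (Z3 K).inv_mem hx3, ?_⟩
    obtain ⟨h1, h2, h3⟩ := mem_Z3.1 hx3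
    rw [GU.inv_d, h1, h2]; ring

theorem card_E [Finite K] {E : Subgroup (GU K)} (hZ : Z3 K ≤ E) (hb : E ≤ Qb K) :
    Nat.card E = Nat.card (WE E hb) * Nat.card K ^ 3 := by
  have hfG : Finite (GU K) := Finite.of_injective (fun x : GU K => (x.a, x.b, x.c, x.d, x.e, x.f)) (by
    intro x y h
    simp only [Prod.mk.injEq] at h
    exact GU.ext h.1 h.2.1 h.2.2.1 h.2.2.2.1 h.2.2.2.2.1 h.2.2.2.2.2)
  let f : E →* Multiplicative (K × K) :=
    { toFun := fun x => Multiplicative.ofAdd ((x : GU K).a, (x : GU K).c)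
      map_one' := rfl
      map_mul' := by
        intro x y
        have h1 : (x : GU K).b = 0 := hb x.2
        rw [← ofAdd_add]
        congr 1
        rw [Subgroup.coe_mul, GU.mul_a, GU.mul_c, h1, zero_mul, add_zero]; rfl }
  have h1 : f.ker = (Z3 K).subgroupOf E := by
    ext x
    rw [MonoidHom.mem_ker, Subgroup.mem_subgroupOf]
    constructor
    · intro h
      have h2 : ((x : GU K).a, (x : GU K).c) = (0, 0) := h
      rw [Prod.mk.injEq] at h2
      exact ⟨h2.1, hb x.2, h2.2⟩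
    · rintro ⟨h2, h3, h4⟩
      show Multiplicative.ofAdd ((x : GU K).a, (x : GU K).c) = 1
      rw [h2, h4]; rfl
  have h2 : Nat.card f.range = Nat.card (WE E hb) := by
    refine Nat.card_congr (Equiv.subtypeEquiv Multiplicative.toAdd fun z => ?_)
    constructor
    · rintro ⟨x, rfl⟩
      exact ⟨x, x.2, rfl⟩
    · rintro ⟨x, hx, h⟩
      exact ⟨⟨x, hx⟩, by
        show Multiplicative.ofAdd (x.a, x.c) = z
        rw [← h]; rfl⟩
  have h3 := f.ker.card_mul_index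
  rw [Subgroup.index_ker, h2, h1, Nat.card_congr (Subgroup.subgroupOfEquivOfLe hZ).toEquiv, card_Z3] at h3
  rw [← h3, mul_comm]

/-- `|Φ ∩ Z₃| = q² |M|` if `Z₂ ≤ Φ` -/
theorem card_Phi [Finite K] {Φ : Subgroup (GU K)} (hZ : Z2 K ≤ Φ) :
    Nat.card (Φ ⊓ Z3 K : Subgroup (GU K)) = Nat.card (ME Φ) * Nat.card K ^ 2 := by
  let f : (Φ ⊓ Z3 K : Subgroup (GU K)) →* Multiplicative K :=
    { toFun := fun x => Multiplicative.ofAdd (x : GU K).d
      map_one' := rfl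
      map_mul' := by
        intro x y
        obtain ⟨h1, h2, h3⟩ := mem_Z3.1 x.2.2
        rw [← ofAdd_add]
        congr 1
        rw [Subgroup.coe_mul, GU.mul_d, h2, h3]; ring }
  have h1 : f.ker = (Z2 K).subgroupOf (Φ ⊓ Z3 K) := by
    ext x
    rw [MonoidHom.mem_ker, Subgroup.mem_subgroupOf]
    obtain ⟨k1, k2, k3⟩ := mem_Z3.1 x.2.2
    constructor
    · intro h
      have h2 : (x : GU K).d = 0 := h
      exact ⟨k1, k2, k3, h2⟩
    · rintro ⟨-, -, -, h4⟩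
      show Multiplicative.ofAdd (x : GU K).d = 1
      rw [h4]; rfl
  have h2 : Nat.card f.range = Nat.card (ME Φ) := by
    refine Nat.card_congr (Equiv.subtypeEquiv Multiplicative.toAdd fun z => ?_)
    constructor
    · rintro ⟨x, rfl⟩
      exact ⟨x, x.2.1, x.2.2, rfl⟩
    · rintro ⟨x, hx, hx3, h⟩
      exact ⟨⟨x, hx, hx3⟩, by
        show Multiplicative.ofAdd x.d = z
        rw [← h]; rfl⟩
  have h3 := f.ker.card_mul_index
  rw [Subgroup.index_ker, h2, h1, Nat.card_congr (Subgroup.subgroupOfEquivOfLe (le_inf hZ Z2_le_Z3)).toEquiv, card_Z2] at h3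
  rw [← h3, mul_comm]

theorem comm_mem_frattini {G : Type*} [Group G] {p : ℕ} [Fact p.Prime] {E : Subgroup G} [Finite E] (hE : IsPGroup p E)
    {x y : G} (hx : x ∈ E) (hy : y ∈ E) : x * y * x⁻¹ * y⁻¹ ∈ (frattini E).map E.subtype := by
  have h3 : (⟨x, hx⟩ * ⟨y, hy⟩ * (⟨x, hx⟩ : E)⁻¹ * (⟨y, hy⟩ : E)⁻¹ : E) ∈ frattini E :=
    Cfsg.Agent.Lib.FrattiniPGroup.commutator_le_frattini hE
      (Subgroup.commutator_mem_commutator (Subgroup.mem_top _) (Subgroup.mem_top _))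
  exact Subgroup.mem_map.2 ⟨_, h3, rfl⟩

theorem card_mul_rel {G : Type*} [Group G] {H N : Subgroup G} (h : H ≤ N) : Nat.card H * H.relIndex N = Nat.card N := by
  rw [← Subgroup.relIndex_bot_left, ← Subgroup.relIndex_bot_left, Subgroup.relIndex_mul_relIndex _ _ _ bot_le h]

/-- **(E5b)**, the case `M ≠ 0` -/
theorem e5b_M (hD : StDual.{u}) {K : Type u} [Field K] {p n : ℕ} (hK : HypG K p n) (h5 : 5 ≤ p) {E : Subgroup (GU K)}
    {Γ : Subgroup (MulAut E)} (hE : Ess (⊤ : Subgroup (GU K)) E p Γ) (hZ : Z3 K ≤ E) (hb : E ≤ Qb K)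
    (hM : ∃ x ∈ E, ∃ y ∈ E, x.a * y.c - x.c * y.a ≠ 0) : E = Qb K := by
  have hfin := hK.fin
  have hchar := hK.char
  have hp : Fact p.Prime := ⟨hK.pp⟩
  have h2 : (2 : K) ≠ 0 := by simpa using ne_zero_of hK (m := 2) (by norm_num) (by omega)
  have h3 : (3 : K) ≠ 0 := by simpa using ne_zero_of hK (m := 3) (by norm_num) (by omega)
  have hfG : Finite (GU K) := Finite.of_injective (fun x : GU K => (x.a, x.b, x.c, x.d, x.e, x.f)) (by
    intro x y h
    simp only [Prod.mk.injEq] at h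
    exact GU.ext h.1 h.2.1 h.2.2.1 h.2.2.2.1 h.2.2.2.2.1 h.2.2.2.2.2)
  set Φ := (frattini E).map E.subtype with hΦ
  have hΦE : Φ ≤ E := Subgroup.map_subtype_le _
  have hEp : IsPGroup p E := isPGroup_top hK |>.to_le le_top
  have hcomm : ∀ x ∈ E, ∀ y ∈ E, x * y * x⁻¹ * y⁻¹ ∈ Φ := fun x hx y hy => comm_mem_frattini hEp hx hy
  obtain ⟨x, hx, y, hy, hxy⟩ := hM
  have hxb : x.b = 0 := hb hx
  have hyb : y.b = 0 := hb hy
  -- `Z₂ ≤ Φ`
  have hZ2 : Z2 K ≤ Φ := by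
    intro z hz
    obtain ⟨z1, z2, z3, z4⟩ := mem_Z2.1 hz
    set D := x.a * y.c - x.c * y.a with hDd
    set d := -(z.e * y.c - z.f * y.a) / (3 * D) with hd
    set d' := -(z.f * x.a - z.e * x.c) / (3 * D) with hd'
    have e1 : x * x4 d * x⁻¹ * (x4 d)⁻¹ ∈ Φ := hcomm x hx _ (hZ (x4_mem d))
    have e2 : y * x4 d' * y⁻¹ * (x4 d')⁻¹ ∈ Φ := hcomm y hy _ (hZ (x4_mem d'))
    have e3 : z = (x * x4 d * x⁻¹ * (x4 d)⁻¹) * (y * x4 d' * y⁻¹ * (x4 d')⁻¹) := by
      have f1 : x * x4 d * x⁻¹ * (x4 d)⁻¹ = ⟨0, 0, 0, 0, -3 * x.a * d, -3 * x.c * d⟩ := by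
        ext
        · exact cm_a _ _
        · exact cm_b _ _
        · rw [cm_c, hxb]; simp only [x4]; ring
        · rw [cm_d, hxb]; simp only [x4]; ring
        · rw [cm_e, hxb]; simp only [x4]; ring
        · rw [cm_f, hxb]; simp only [x4]; ring
      have f2 : y * x4 d' * y⁻¹ * (x4 d')⁻¹ = ⟨0, 0, 0, 0, -3 * y.a * d', -3 * y.c * d'⟩ := by
        ext
        · exact cm_a _ _
        · exact cm_b _ _
        · rw [cm_c, hyb]; simp only [x4]; ring
        · rw [cm_d, hyb]; simp only [x4]; ring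
        · rw [cm_e, hyb]; simp only [x4]; ring
        · rw [cm_f, hyb]; simp only [x4]; ring
      rw [f1, f2]
      ext
      · rw [GU.mul_a, z1]; simp
      · rw [GU.mul_b, z2]; simp
      · rw [GU.mul_c, z3]; simp
      · rw [GU.mul_d, z4]; simp
      · rw [GU.mul_e]; simp only []
        rw [hd, hd']; field_simp; rw [hDd]; ring
      · rw [GU.mul_f]; simp only []
        rw [hd, hd']; field_simp; rw [hDd]; ring
    rw [e3]
    exact Φ.mul_mem e1 e2
  -- the inequality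
  have hdual := hD hE (Z3 K) (Qb K) (le_normalizerIn fun g hg z hz => by
        have h1 := E.mul_mem (hZ (com_Qb g hg z (hb hz))) hz
        rwa [inv_mul_cancel_right] at h1) hZ (fun g hg z hz => le_sup_left (α := Subgroup (GU K)) (com_Qb g hg z (hb hz)))
  change E.relIndex (Qb K) ≤ Φ.relIndex (Z3 K ⊔ Φ) at hdual
  have c1 := card_mul_rel hb
  rw [card_E hZ hb, card_Qb] at c1
  have c2 : Nat.card (Φ ⊓ Z3 K : Subgroup (GU K)) * (Z3 K).relIndex Φ = Nat.card Φ := by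
    rw [← Subgroup.inf_relIndex_left, inf_comm, ← inf_comm, card_mul_rel inf_le_left]
  have c3 : Nat.card (Z3 K) * (Z3 K).relIndex Φ = Nat.card (Z3 K ⊔ Φ : Subgroup (GU K)) := by
    rw [← Subgroup.relIndex_sup_left, card_mul_rel le_sup_left]
  have c4 : Nat.card Φ * Φ.relIndex (Z3 K ⊔ Φ) = Nat.card (Z3 K ⊔ Φ : Subgroup (GU K)) := card_mul_rel le_sup_right
  have hq : 0 < Nat.card K := Nat.card_pos
  have hr : 0 < (Z3 K).relIndex Φ := Nat.pos_of_ne_zero Subgroup.index_ne_zero_of_finite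
  have c5 : Nat.card (ME Φ) * Φ.relIndex (Z3 K ⊔ Φ) = Nat.card K := by
    rw [card_Phi hZ2] at c2
    rw [card_Z3] at c3
    have h4 : (Nat.card K ^ 2 * (Z3 K).relIndex Φ) * (Nat.card (ME Φ) * Φ.relIndex (Z3 K ⊔ Φ)) =
        (Nat.card K ^ 2 * (Z3 K).relIndex Φ) * Nat.card K := by
      calc _ = (Nat.card (ME Φ) * Nat.card K ^ 2 * (Z3 K).relIndex Φ) * Φ.relIndex (Z3 K ⊔ Φ) := by ring
        _ = Nat.card K ^ 3 * (Z3 K).relIndex Φ := by rw [c2, c4, c3]
        _ = _ := by ring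
    exact Nat.eq_of_mul_eq_mul_left (by positivity) h4
  have c6 : Nat.card (WE E hb) * E.relIndex (Qb K) = Nat.card K ^ 2 := by
    have h4 : Nat.card K ^ 3 * (Nat.card (WE E hb) * E.relIndex (Qb K)) = Nat.card K ^ 3 * Nat.card K ^ 2 := by
      rw [← pow_add, ← c1]; ring
    exact Nat.eq_of_mul_eq_mul_left (by positivity) h4
  have c7 : Nat.card K * Nat.card (ME Φ) ≤ Nat.card (WE E hb) := by
    have h4 : Nat.card K * (Nat.card K * Nat.card (ME Φ)) ≤ Nat.card K * Nat.card (WE E hb) := by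
      calc _ = Nat.card K ^ 2 * Nat.card (ME Φ) := by ring
        _ = Nat.card (WE E hb) * E.relIndex (Qb K) * Nat.card (ME Φ) := by rw [c6]
        _ ≤ Nat.card (WE E hb) * Φ.relIndex (Z3 K ⊔ Φ) * Nat.card (ME Φ) :=
          Nat.mul_le_mul_right _ (Nat.mul_le_mul_left _ hdual)
        _ = Nat.card (WE E hb) * (Nat.card (ME Φ) * Φ.relIndex (Z3 K ⊔ Φ)) := by ring
        _ = _ := by rw [c5, mul_comm]
    exact Nat.le_of_mul_le_mul_left h4 hq
  -- the determinants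
  have hdet : ∀ x ∈ E, ∀ y ∈ E, 2 * (x.a * y.c - x.c * y.a) ∈ ME Φ := by
    intro x hx y hy
    have hx0 : x.b = 0 := hb hx
    have hy0 : y.b = 0 := hb hy
    have h4 : x * y * x⁻¹ * y⁻¹ ∈ Φ := hcomm x hx y hy
    have h5 : (x * y * x⁻¹ * y⁻¹).d ∈ ME Φ := ⟨_, h4, com_Qb x (hb hx) y (hb hy), rfl⟩
    have h6 := (ME Φ).neg_mem h5
    convert h6 using 1
    rw [cm_d, hx0, hy0]; ring
  have hMtop : ME Φ = ⊤ := by
    by_contra hne
    let T : AddSubgroup K := (ME Φ).comap (AddMonoidHom.mulLeft 2)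
    have hT : T ≠ ⊤ := by
      intro h4
      refine hne (eq_top_iff.2 fun k _ => ?_)
      have h5 : k / 2 ∈ T := by rw [h4]; trivial
      have h6 : 2 * (k / 2) ∈ ME Φ := h5
      rwa [mul_div_cancel₀ k h2] at h6
    have h4 : Nat.card (WE E hb) ≤ Nat.card K := card_le_of_isotropic (p := p) (WE E hb) T hT (by
      rintro _ ⟨x, hx, rfl⟩ _ ⟨y, hy, rfl⟩
      exact hdet x hx y hy)
    have h5 : Nat.card (ME Φ) ≤ 1 := by
      have h6 := c7.trans h4
      have h7 : Nat.card K * Nat.card (ME Φ) ≤ Nat.card K * 1 := by rwa [mul_one]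
      exact Nat.le_of_mul_le_mul_left h7 hq
    have h6 := (AddSubgroup.card_le_one_iff_eq_bot _).1 h5
    have h7 := hdet x hx y hy
    rw [h6, AddSubgroup.mem_bot] at h7
    exact (mul_ne_zero h2 hxy) h7
  rw [hMtop, AddSubgroup.card_top] at c7
  have c8 : E.relIndex (Qb K) ≤ 1 := by
    have h4 : Nat.card K ^ 2 * E.relIndex (Qb K) ≤ Nat.card K ^ 2 * 1 := by
      calc _ = (Nat.card K * Nat.card K) * E.relIndex (Qb K) := by ring
        _ ≤ Nat.card (WE E hb) * E.relIndex (Qb K) := Nat.mul_le_mul_right _ c7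
        _ = _ := by rw [c6, mul_one]
    exact Nat.le_of_mul_le_mul_left h4 (by positivity)
  have c9 : E.relIndex (Qb K) = 1 := le_antisymm c8 (Nat.one_le_iff_ne_zero.mpr Subgroup.index_ne_zero_of_finite)
  exact le_antisymm hb (Subgroup.relIndex_eq_one.mp c9)

end

end Cfsg.Agent.H647.GT
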