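import Cfsg.Agent.H647.GT.ThreeB
import Cfsg.Agent.H771.GT.EThree
import Cfsg.Agent.H7.GT.ECent
import Cfsg.Agent.H294.G2.TI
import Cfsg.Agent.H428.GT.LbZero3
import Cfsg.Agent.H7.GT.EThree

/-!
# S5211, (E3): `p = 3`, the essential subgroups (helper647)
-/

set_option autoImplicit false

namespace Cfsg.Agent.H647.GT

open Cfsg Cfsg.FusionSystem Cfsg.Agent.H756.PU Cfsg.Agent.H779.G2 Cfsg.Agent.H103.GT Cfsg.Agent.H753.GT Cfsg.Agent.H710.GT
open Cfsg.Agent.H802 Cfsg.Agent.H732.PU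

universe u

/-- `E` is small if its centre contains an element outside `J` -/
theorem card_small {K : Type u} [Field K] [Finite K] (h3 : (3 : K) = 0) {E : Subgroup (GU K)} {y : GU K}
    (hyc : ∀ e ∈ E, y * e = e * y) (h : (y.b = 0 ∧ y.a ≠ 0) ∨ (y.a = 0 ∧ y.b ≠ 0)) :
    Nat.card E ≤ Nat.card K ^ 4 := by
  rcases h with ⟨hb, ha⟩ | ⟨ha, hb⟩
  · obtain ⟨μ, hμ⟩ := exists_RL (x := y) hb ha
    rw [← card_RL (μ := μ)]
    exact Subgroup.card_le_of_le fun e he => mem_RL_of_comm h3 hμ ha (hyc e he)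
  · have key : ∀ g ∈ E, g.a = 0 ∧ y.b * g.e = y.e * g.b := by
      intro g hg
      obtain ⟨e1, -, -, e4⟩ := (comm_iff _ _).1 (hyc g hg)
      rw [cm_c, ha] at e1
      have hga : g.a = 0 := by
        apply mul_left_cancel₀ hb
        linear_combination e1
      rw [cm_f, ha, hga] at e4
      refine ⟨hga, ?_⟩
      linear_combination e4 + (y.c * g.d - y.d * g.c) * h3
    have hinj : Function.Injective (fun g : E => ((g : GU K).b, (g : GU K).c, (g : GU K).d, (g : GU K).f)) := by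
      rintro ⟨g, hg⟩ ⟨g', hg'⟩ h
      simp only [Prod.mk.injEq] at h
      obtain ⟨h1, h2, h4, h5⟩ := h
      obtain ⟨a1, a2⟩ := key g hg
      obtain ⟨b1, b2⟩ := key g' hg'
      apply Subtype.ext
      refine GU.ext (by rw [a1, b1]) h1 h2 h4 ?_ h5
      apply mul_left_cancel₀ hb
      rw [a2, b2, h1]
    calc Nat.card E ≤ Nat.card (K × K × K × K) := Nat.card_le_card_of_injective _ hinj
      _ = Nat.card K ^ 4 := by simp only [Nat.card_prod]; ring

/-- **(E3-2)** -/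
theorem stE32_of (hB : StBound.{u}) (hE31 : StE31.{u}) : StE32.{u} := by
  intro K _ n _ hK F hF E hE
  have hfin := hK.fin
  have hfG : Finite (GU K) := finite_GU hK
  have h3 : (3 : K) = 0 := three_eq hK
  have hS := isP hK
  have key : ∀ (F : FusionSystem (⊤ : Subgroup (GU K))), F.IsSaturated 3 → ∀ E, F.IsEssential 3 E → ∀ y ∈ E,
      (∀ e ∈ E, y * e = e * y) → y.b = 0 → y.a ≠ 0 → False := by
    intro F hF E hE y hy hyc hb ha
    refine e32_b Cfsg.Agent.H949.GT.stNeg Cfsg.Agent.H52.PU.stFF Cfsg.Agent.H758.GT.stExt Cfsg.Agent.H758.GT.stNExt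
      Cfsg.Agent.H428.GT.stLb0 hK hF (fun hQ => ?_) hE hy hyc hb ha
    refine Cfsg.Agent.H771.GT.e32_ess_conj hK Cfsg.Agent.H294.G2.stTI hE31 hF (fun E' hE' hJ' => ?_) hQ
    obtain ⟨y', -, hyc', hy'⟩ := Cfsg.Agent.H7.GT.e32_a Cfsg.Agent.H732.PU.stChain hB hK
      (Cfsg.Agent.H245.PU.stEss F E' hS hF hE') hJ'
    rw [← hK.card]
    exact card_small h3 hyc' hy'
  by_contra hJ
  obtain ⟨y, hy, hyc, ⟨hb, ha⟩ | ⟨ha, hb⟩⟩ := Cfsg.Agent.H7.GT.e32_a Cfsg.Agent.H732.PU.stChain hB hK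
    (Cfsg.Agent.H245.PU.stEss F E hS hF hE) hJ
  · exact key F hF E hE y hy hyc hb ha
  · exact Cfsg.Agent.H771.GT.e32_T hK key F hF E hE y hy hyc ha hb

/-- **(E3)** -/
theorem stE3_of (hE31 : StE31.{u}) (hE32 : StE32.{u}) : StE3.{u} := by
  intro K _ p n _ hK hp F hF E hE
  subst hp
  have hfin := hK.fin
  have hfG : Finite (GU K) := finite_GU hK
  exact hE31 hK (Cfsg.Agent.H245.PU.stEss F E (isP hK) hF hE) (hE32 hK F hF E hE)

theorem stE32 (hB : StBound.{u}) (hD : StDual.{u}) : StE32.{u} := stE32_of hB (Cfsg.Agent.H7.GT.stE31 hD)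

theorem stE3 (hB : StBound.{u}) (hD : StDual.{u}) : StE3.{u} := stE3_of (Cfsg.Agent.H7.GT.stE31 hD) (stE32 hB hD)

end Cfsg.Agent.H647.GT
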