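import Mathlib

/-!
# Additive subgroups of `K²` isotropic modulo a proper subgroup of `K` (helper647)
-/

set_option autoImplicit false

namespace Cfsg.Agent.H647.GT

open Module

theorem card_le_of_isotropic {K : Type*} [Field K] [Finite K] {p : ℕ} [hp : Fact p.Prime] [CharP K p]
    (W : AddSubgroup (K × K)) (M : AddSubgroup K) (hM : M ≠ ⊤)
    (h : ∀ w ∈ W, ∀ w' ∈ W, w.1 * w'.2 - w.2 * w'.1 ∈ M) : Nat.card W ≤ Nat.card K := by
  let _ := ZMod.algebra K p
  have hfin : Module.Finite (ZMod p) K := Module.Finite.of_finite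
  obtain ⟨f, hf0, hf⟩ := Submodule.exists_le_ker_of_lt_top (AddSubgroup.toZModSubmodule p M) (by
    rw [lt_top_iff_ne_top]
    intro h1
    apply hM
    rw [AddSubgroup.eq_top_iff']
    intro x
    have : x ∈ AddSubgroup.toZModSubmodule p M := by rw [h1]; trivial
    exact this)
  let B : LinearMap.BilinForm (ZMod p) (K × K) := LinearMap.mk₂ (ZMod p) (fun w w' => f (w.1 * w'.2 - w.2 * w'.1))
    (fun x y z => by rw [← map_add]; congr 1; simp only [Prod.fst_add, Prod.snd_add]; ring)
    (fun a x y => by rw [← map_smul]; congr 1; simp only [Prod.smul_fst, Prod.smul_snd, smul_mul_assoc, smul_sub])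
    (fun x y z => by rw [← map_add]; congr 1; simp only [Prod.fst_add, Prod.snd_add]; ring)
    (fun a x y => by rw [← map_smul]; congr 1; simp only [Prod.smul_fst, Prod.smul_snd, mul_smul_comm, smul_sub])
  have hB : ∀ w w' : K × K, B w w' = f (w.1 * w'.2 - w.2 * w'.1) := fun _ _ => rfl
  have hsurj : ∀ w : K × K, w ≠ 0 → ∀ c : K, ∃ w' : K × K, w.1 * w'.2 - w.2 * w'.1 = c := by
    rintro ⟨a, b⟩ hw c
    by_cases ha : a = 0
    · have hb : b ≠ 0 := by rintro rfl; exact hw (by rw [ha]; rfl)
      exact ⟨(-c / b, 0), by simp only []; field_simp; ring⟩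
    · exact ⟨(0, c / a), by simp only []; field_simp; ring⟩
  have hex : ∃ c, f c ≠ 0 := by
    by_contra hcon
    push Not at hcon
    exact hf0 (LinearMap.ext hcon)
  obtain ⟨c, hc⟩ := hex
  have hnd : B.Nondegenerate := by
    constructor
    · intro w hw
      by_contra h0
      obtain ⟨w', hw'⟩ := hsurj w h0 c
      apply hc
      rw [← hw', ← hB]
      exact hw w'
    · intro w hw
      by_contra h0
      obtain ⟨w', hw'⟩ := hsurj w h0 (-c)
      apply hc
      have h1 : c = w'.1 * w.2 - w'.2 * w.1 := by linear_combination hw'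
      rw [h1, ← hB]
      exact hw w'
  have h1 : AddSubgroup.toZModSubmodule p W ≤ B.orthogonal (AddSubgroup.toZModSubmodule p W) := by
    intro w hw
    rw [LinearMap.BilinForm.mem_orthogonal_iff]
    intro w' hw'
    exact hf (h w' hw' w hw)
  have h2 := Submodule.finrank_mono h1
  rw [LinearMap.BilinForm.finrank_orthogonal hnd, Module.finrank_prod] at h2
  have h3 : finrank (ZMod p) (AddSubgroup.toZModSubmodule p W) ≤ finrank (ZMod p) K := by omega
  have h4 := Module.natCard_eq_pow_finrank (K := ZMod p) (V := AddSubgroup.toZModSubmodule p W)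
  have h5 := Module.natCard_eq_pow_finrank (K := ZMod p) (V := K)
  rw [Nat.card_zmod] at h4 h5
  have h6 : Nat.card (AddSubgroup.toZModSubmodule p W) = Nat.card W := rfl
  rw [← h6, h4, h5]
  exact Nat.pow_le_pow_right hp.out.pos h3

end Cfsg.Agent.H647.GT
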