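import Cfsg.Agent.H753.GT.Line
import Cfsg.Agent.H753.GT.Conj
import Cfsg.Agent.H103.GT.Swap

/-!
# S5211, `p = 3`: the abelian subgroups `RL μ` of order `q⁴` of `Q_b` (helper647)
-/

set_option autoImplicit false

namespace Cfsg.Agent.H647.GT

open Cfsg Cfsg.FusionSystem Cfsg.Agent.H756.PU Cfsg.Agent.H779.G2 Cfsg.Agent.H103.GT Cfsg.Agent.H753.GT

universe u

section
variable {K : Type u} [Field K] {μ : K}

theorem two_ne_zero' (h3 : (3 : K) = 0) : (2 : K) ≠ 0 := by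
  intro h2
  apply one_ne_zero (α := K)
  linear_combination h3 - h2

/-- the centralizer of an element of `Q_b` with `a ≠ 0` lies in `RL μ` -/
theorem mem_RL_of_comm (h3 : (3 : K) = 0) {x y : GU K} (hx : x ∈ RL μ) (ha : x.a ≠ 0) (h : x * y = y * x) :
    y ∈ RL μ := by
  obtain ⟨k1, k2⟩ := mem_RL.1 hx
  obtain ⟨e1, e2, -, -⟩ := (comm_iff _ _).1 h
  rw [cm_c, k1] at e1
  have hb : y.b = 0 := by
    apply mul_left_cancel₀ ha
    linear_combination -e1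
  rw [cm_d, k1, k2, hb] at e2
  refine ⟨hb, ?_⟩
  apply mul_left_cancel₀ (mul_ne_zero (two_ne_zero' h3) ha)
  linear_combination -e2

/-- `RL` is abelian -/
theorem comm_RL (h3 : (3 : K) = 0) {x y : GU K} (hx : x ∈ RL μ) (hy : y ∈ RL μ) : x * y = y * x := by
  obtain ⟨h1, h2⟩ := mem_RL.1 hx
  obtain ⟨k1, k2⟩ := mem_RL.1 hy
  rw [comm_iff, cm_c, cm_d, cm_e, cm_f, h1, h2, k1, k2]
  refine ⟨by ring, by ring, ?_, ?_⟩
  · linear_combination (-2 * x.a * (μ * x.a) * y.a + 2 * x.a * y.a * (μ * y.a) - x.a * y.d + x.a ^ 2 * (μ * y.a)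
      - (μ * x.a) * y.a ^ 2 + x.d * y.a) * h3
  · linear_combination (x.a * (μ * y.a) ^ 2 - (μ * x.a) * y.d - (μ * x.a) ^ 2 * y.a + x.d * (μ * y.a)) * h3

theorem exists_RL {x : GU K} (hx : x ∈ Qb K) (ha : x.a ≠ 0) : ∃ μ : K, x ∈ RL μ :=
  ⟨x.c / x.a, hx, by field_simp⟩

/-- `[Q_b, Q_b] ≤ X₄` -/
theorem com_Qb_three (h3 : (3 : K) = 0) {x y : GU K} (hx : x ∈ Qb K) (hy : y ∈ Qb K) :
    x * y * x⁻¹ * y⁻¹ = x4 (2 * (x.c * y.a - x.a * y.c)) := by
  have h1 : x.b = 0 := hx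
  have k1 : y.b = 0 := hy
  ext
  · rw [cm_a]; rfl
  · rw [cm_b]; rfl
  · rw [cm_c, h1, k1]; simp only [x4]; ring
  · rw [cm_d, h1, k1]; simp only [x4]; ring
  · rw [cm_e, h1, k1]; simp only [x4]
    linear_combination (-2 * x.a * x.c * y.a + 2 * x.a * y.a * y.c - x.a * y.d + x.a ^ 2 * y.c
      - x.c * y.a ^ 2 + x.d * y.a) * h3
  · rw [cm_f, h1, k1]; simp only [x4]
    linear_combination (x.a * y.c ^ 2 - x.c * y.d - x.c ^ 2 * y.a + x.d * y.c) * h3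

/-- the centre of `Q_b` is `Z₃` -/
theorem cent_Qb_three (h3 : (3 : K) = 0) {y : GU K} (h : ∀ x ∈ Qb K, y * x = x * y) : y ∈ Z3 K := by
  obtain ⟨e1, e2, -, -⟩ := (comm_iff _ _).1 (h (x1 1) (x1_mem 1))
  rw [cm_c] at e1
  rw [cm_d] at e2
  obtain ⟨-, f2, -, -⟩ := (comm_iff _ _).1 (h (x3 1) (Z4_le_Qb (x3_mem 1)))
  rw [cm_d] at f2
  simp only [x1, x3] at e1 e2 f2
  have hb : y.b = 0 := by linear_combination e1
  have ha : y.a = 0 := by
    apply mul_left_cancel₀ (two_ne_zero' h3)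
    linear_combination -f2
  refine ⟨ha, hb, ?_⟩
  apply mul_left_cancel₀ (two_ne_zero' h3)
  rw [ha, hb] at e2
  linear_combination e2

/-- `Q_b` has exponent `3` -/
theorem pow_Qb (h3 : (3 : K) = 0) {x : GU K} (hx : x ∈ Qb K) : x ^ 3 = 1 := by
  have h1 : x.b = 0 := hx
  have e : x ^ 3 = x * x * x := by rw [pow_succ, pow_two]
  rw [e]
  ext
  · simp only [GU.mul_a, GU.one_a]; linear_combination x.a * h3
  · simp only [GU.mul_b, GU.one_b, h1]; ring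
  · simp only [GU.mul_c, GU.mul_b, GU.one_c, h1]; linear_combination x.c * h3
  · simp only [GU.mul_d, GU.mul_c, GU.mul_b, GU.one_d, h1]; linear_combination (x.d + 2 * x.a * x.c) * h3
  · simp only [GU.mul_e, GU.mul_d, GU.mul_c, GU.mul_b, GU.one_e, h1]
    linear_combination (x.e + 3 * x.a * x.d + 5 * x.a ^ 2 * x.c) * h3
  · simp only [GU.mul_f, GU.mul_e, GU.mul_d, GU.mul_c, GU.mul_b, GU.one_f, h1]
    linear_combination (x.f + 3 * x.d * x.c + 13 * x.a * x.c ^ 2) * h3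

/-- `x₂(s)` moves `RL μ` to `RL (μ + s)` -/
theorem conj_RL {s : K} {x : GU K} (hx : x ∈ RL μ) : x2 s * x * (x2 s)⁻¹ ∈ RL (μ + s) := by
  obtain ⟨k1, k2⟩ := mem_RL.1 hx
  refine ⟨?_, ?_⟩
  · rw [cj_b, k1]
  · rw [cj_c, cj_a, k1, k2]; simp only [x2]; ring

variable {F : FusionSystem (⊤ : Subgroup (GU K))}

open Cfsg.Agent.H802 in
/-- the `RL μ` are conjugate -/
theorem isConj_RL [Finite K] (μ' : K) : F.IsConj (RL μ) (RL μ') := by
  refine ⟨conjHom (RL μ) (x2 (μ' - μ)), F.conj_mem le_top trivial, ?_⟩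
  have hle : (conjHom (RL μ) (x2 (μ' - μ))).range ≤ RL μ' := by
    rintro _ ⟨x, rfl⟩
    have h1 := conj_RL (s := μ' - μ) x.2
    rw [add_sub_cancel] at h1
    exact h1
  apply Subgroup.eq_of_le_of_card_ge hle
  have h5 : Nat.card (conjHom (RL μ) (x2 (μ' - μ))).range = Nat.card (RL μ) :=
    (Nat.card_congr (MonoidHom.ofInjective (F.injective_of_mem (F.conj_mem (P := RL μ) (g := x2 (μ' - μ)) le_top
      trivial))).toEquiv).symm
  rw [h5, card_RL, card_RL]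

/-- `J` is not conjugate to a fully normalized `RL μ` -/
theorem not_conj_Z4 [Finite K] (hf : F.IsFullyNormalized (RL μ)) : ¬ F.IsConj (RL μ) (Z4 K) := by
  intro h
  have hq : 1 < Nat.card K := Finite.one_lt_card
  have h1 := hf.2 _ h
  have h4 : (⊤ : Subgroup (GU K)) ≤ normalizerIn ⊤ (Z4 K) :=
    le_normalizerIn fun g _ x hx => normal_Z4.conj_mem x hx g
  have h5 : Nat.card (GU K) ≤ Nat.card (normalizerIn ⊤ (Z4 K)) := by
    rw [← Subgroup.card_top (G := GU K)]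
    exact Subgroup.card_le_of_le h4
  rw [normalizerIn_RL, card_Qb] at h1
  rw [GU.card_eq] at h5
  have h7 := (Nat.pow_le_pow_iff_right hq).1 (h5.trans h1)
  omega

open Cfsg.Agent.H802 in
/-- if some `RL μ` is fully normalized then `J` is invariant under `Aut_F(Q_b)` -/
theorem aut_Qb_Z4 [Finite K] (h3 : (3 : K) = 0) (hf : F.IsFullyNormalized (RL μ)) {γ : MulAut (Qb K)}
    (hγ : γ ∈ F.autGroup (Qb K)) {g : Qb K} (hg : (g : GU K) ∈ Z4 K) : ((γ g : Qb K) : GU K).a = 0 := by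
  by_contra ha
  obtain ⟨μ', hμ'⟩ := exists_RL (γ g).2 ha
  have h1 : ((Qb K).subtype.comp γ.toMonoidHom).comp (Subgroup.inclusion (Z4_le_Qb (K := K))) ∈ F.Hom (Z4 K) :=
    restrict_mem ((mem_autGroup_iff F le_top γ).1 hγ) Z4_le_Qb
  have h4 := isConj_range h1
  have h5 : (((Qb K).subtype.comp γ.toMonoidHom).comp (Subgroup.inclusion (Z4_le_Qb (K := K)))).range = RL μ' := by
    apply Subgroup.eq_of_le_of_card_ge
    · rintro _ ⟨z, rfl⟩
      refine mem_RL_of_comm h3 hμ' ha ?_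
      have h6 : g * ⟨z, Z4_le_Qb z.2⟩ = ⟨z, Z4_le_Qb z.2⟩ * g := Subtype.ext (comm_Z4 h3 hg z.2)
      have h7 := congrArg γ h6
      rw [map_mul, map_mul] at h7
      exact congrArg Subtype.val h7
    · rw [← isConj_card_eq h4, card_RL, card_Z4]
  rw [h5] at h4
  exact not_conj_Z4 hf (isConj_trans (isConj_RL μ') (isConj_symm h4))

/-- `x₄(2)` is a commutator of `x₃(1)` -/
theorem comm_x3 (h3 : (3 : K) = 0) (s : K) : x3 s * ⟨1, 0, μ * 1, 0, 0, 0⟩ * (x3 s)⁻¹ * (⟨1, 0, μ * 1, 0, 0, 0⟩ : GU K)⁻¹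
    = x4 (2 * s) := by
  have h1 : (⟨1, 0, μ * 1, 0, 0, 0⟩ : GU K) ∈ Qb K := rfl
  rw [com_Qb_three h3 (Z4_le_Qb (x3_mem s)) h1]
  congr 1
  simp only [x3]
  ring

theorem mem_Z4_of_comm {y : GU K} (h : ∀ s : GU K, (s * y * s⁻¹ * y⁻¹).c = 0) : y ∈ Z4 K := by
  have e1 := h (x1 1)
  have e2 := h (x2 1)
  rw [cm_c] at e1 e2
  simp only [x1, x2] at e1 e2
  exact ⟨by linear_combination e2, by linear_combination -e1⟩

theorem comm_Z4_c {y : GU K} (hy : y ∈ Z4 K) (s : GU K) : (s * y * s⁻¹ * y⁻¹).c = 0 := by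
  rw [cm_c, hy.1, hy.2]; ring

theorem comm_Z4_e (h3 : (3 : K) = 0) {y : GU K} (hy : y ∈ Z4 K) (s : GU K) : (s * y * s⁻¹ * y⁻¹).e = 0 := by
  rw [cm_e, hy.1, hy.2]
  linear_combination (-(s.a * y.d) + s.a ^ 2 * y.c) * h3

/-- an element centralizing `S` has `c = 0` -/
theorem cent_S_c {y : GU K} (h2 : (2 : K) ≠ 0) (h : ∀ s : GU K, s * y = y * s) : y.c = 0 := by
  have e1 := (comm_iff _ _).1 (h (x1 1))
  have e2 := (comm_iff _ _).1 (h (x2 1))
  rw [cm_d] at e1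
  rw [cm_c] at e2
  obtain ⟨-, e1, -, -⟩ := e1
  obtain ⟨e2, -, -, -⟩ := e2
  simp only [x1, x2] at e1 e2
  have ha : y.a = 0 := by linear_combination e2
  have e3 := (comm_iff _ _).1 (h (x1 1))
  rw [cm_c] at e3
  obtain ⟨e3, -, -, -⟩ := e3
  simp only [x1] at e3
  have hb : y.b = 0 := by linear_combination -e3
  rw [ha, hb] at e1
  apply mul_left_cancel₀ h2
  linear_combination -e1

end

end Cfsg.Agent.H647.GT
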